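import Groth.Agent.HU32.Basic
import Mathlib.Algebra.Homology.DerivedCategory.Ext.EnoughInjectives

/-! Restriction maps in big-site cohomology are functorial in the morphism. -/

set_option autoImplicit false
set_option backward.isDefEq.respectTransparency false

noncomputable section

universe u w v₁ v₂ v₃ u₁ u₂ u₃

open CategoryTheory CategoryTheory.Limits AlgebraicGeometry Opposite CategoryTheory.Abelian

namespace Groth.Agent.HRes64

section Ext

variable {A : Type u₁} [Category.{v₁} A] [Abelian A] [HasExt.{w} A] [EnoughInjectives A]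

/-- The identity functor acts as the identity on Ext classes. -/
theorem mapExt_id : ∀ (n : ℕ) {P Q : A} (e : Ext.{w} P Q n), e.mapExactFunctor (𝟭 A) = e := by
  intro n
  induction n with
  | zero =>
    intro P Q e
    obtain ⟨φ, rfl⟩ := (Ext.mk₀_bijective P Q).2 e
    exact Ext.mapExactFunctor_mk₀ (𝟭 A) φ
  | succ n ih =>
    intro P Q e
    let S : ShortComplex A :=
      ShortComplex.mk (Injective.ι Q) (cokernel.π (Injective.ι Q)) (cokernel.condition _)
    have hS : S.ShortExact :=
      { exact := ShortComplex.exact_of_g_is_cokernel _ (cokernelIsCokernel (Injective.ι Q))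
        mono_f := inferInstanceAs (Mono (Injective.ι Q))
        epi_g := inferInstanceAs (Epi (cokernel.π _)) }
    obtain ⟨s, rfl⟩ : ∃ s : Ext.{w} P S.X₃ n, s.comp hS.extClass rfl = e :=
      Ext.covariant_sequence_exact₁ P hS e
        (Subsingleton.elim (h := Ext.subsingleton_of_injective.{w} P (Injective.under Q) n) _ _) rfl
    rw [Ext.mapExactFunctor_comp, Ext.mapExactFunctor_extClass (𝟭 A) hS, ih s]

variable {B : Type u₂} [Category.{v₂} B] [Abelian B] [HasExt.{w} B]
  {D : Type u₃} [Category.{v₃} D] [Abelian D] [HasExt.{w} D]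

/-- Exact functors compared by a natural transformation act compatibly on Ext classes. -/
theorem mapExt_natural (F : A ⥤ B) [F.Additive] [PreservesFiniteLimits F] [PreservesFiniteColimits F]
    (G : B ⥤ D) [G.Additive] [PreservesFiniteLimits G] [PreservesFiniteColimits G]
    (H : A ⥤ D) [H.Additive] [PreservesFiniteLimits H] [PreservesFiniteColimits H]
    (η : F ⋙ G ⟶ H) :
    ∀ (n : ℕ) {P Q : A} (e : Ext.{w} P Q n),
      ((e.mapExactFunctor F).mapExactFunctor G).comp (Ext.mk₀ (η.app Q)) (add_zero n) =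
        (Ext.mk₀ (η.app P)).comp (e.mapExactFunctor H) (zero_add n) := by
  intro n
  induction n with
  | zero =>
    intro P Q e
    obtain ⟨φ, rfl⟩ := (Ext.mk₀_bijective P Q).2 e
    simp only [Ext.mapExactFunctor_mk₀, Ext.mk₀_comp_mk₀]
    exact congrArg Ext.mk₀ (η.naturality φ)
  | succ n ih =>
    intro P Q e
    let S : ShortComplex A :=
      ShortComplex.mk (Injective.ι Q) (cokernel.π (Injective.ι Q)) (cokernel.condition _)
    have hS : S.ShortExact :=
      { exact := ShortComplex.exact_of_g_is_cokernel _ (cokernelIsCokernel (Injective.ι Q))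
        mono_f := inferInstanceAs (Mono (Injective.ι Q))
        epi_g := inferInstanceAs (Epi (cokernel.π _)) }
    obtain ⟨s, rfl⟩ : ∃ s : Ext.{w} P S.X₃ n, s.comp hS.extClass rfl = e :=
      Ext.covariant_sequence_exact₁ P hS e
        (Subsingleton.elim (h := Ext.subsingleton_of_injective.{w} P (Injective.under Q) n) _ _) rfl
    let φ : (S.map F).map G ⟶ S.map H :=
      { τ₁ := η.app S.X₁, τ₂ := η.app S.X₂, τ₃ := η.app S.X₃
        comm₁₂ := (η.naturality S.f).symm
        comm₂₃ := (η.naturality S.g).symm }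
    have key := ShortComplex.ShortExact.extClass_naturality ((hS.map_of_exact F).map_of_exact G)
      (hS.map_of_exact H) φ
    rw [Ext.mapExactFunctor_comp, Ext.mapExactFunctor_comp, Ext.mapExactFunctor_comp,
      Ext.mapExactFunctor_extClass F hS, Ext.mapExactFunctor_extClass H hS]
    erw [Ext.mapExactFunctor_extClass G (hS.map_of_exact F)]
    refine (Ext.comp_assoc _ _ _ rfl (add_zero 1) (by omega)).trans ?_
    refine (congrArg (fun z => ((s.mapExactFunctor F).mapExactFunctor G).comp z rfl) key).trans ?_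
    refine (Ext.comp_assoc _ _ _ (add_zero n) (zero_add 1) (by omega)).symm.trans ?_
    refine (congrArg (fun z => Ext.comp z (hS.map_of_exact H).extClass rfl) (ih s)).trans ?_
    exact Ext.comp_assoc _ _ _ (zero_add n) rfl (by omega)

end Ext

variable (K : Precoverage Scheme.{u})

/-- Maps out of the constant sheaf `ℤ` are determined by the image of the tautological section. -/
theorem const_ext {T : Scheme.{u}} {F : BigSite.Ab K T}
    (α β : (constantSheaf (QuotSh.J K T) AddCommGrpCat.{u + 1}).obj HU32.Z ⟶ F)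
    (h : α.hom.app (op (HU32.top T)) (HU32.unitElt K T (HU32.top T)) =
      β.hom.app (op (HU32.top T)) (HU32.unitElt K T (HU32.top T))) : α = β := by
  apply (Ext.mk₀_bijective _ F).1
  apply (HU32.h0 K T F).injective
  rw [HU32.h0_apply, HU32.h0_apply]
  erw [Ext.addEquiv₀.apply_symm_apply, Ext.addEquiv₀.apply_symm_apply]
  exact h

theorem pullConst_comp {S T T' : Scheme.{u}} (f : T ⟶ S) (g : T' ⟶ T) :
    (HRes.pullConst K g HU32.Z).inv ≫ (BigSite.pullBig K g _).map (HRes.pullConst K f HU32.Z).inv ≫
      ((K.toGrothendieck).overMapPullbackComp AddCommGrpCat.{u + 1} g f).hom.app _ =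
      (HRes.pullConst K (g ≫ f) HU32.Z).inv := by
  refine const_ext K _ _ ?_
  rw [HU32.pullConst_inv_unitElt]
  change (((K.toGrothendieck).overMapPullbackComp AddCommGrpCat.{u + 1} g f).hom.app _).hom.app _
    ((HRes.pullConst K f HU32.Z).inv.hom.app (op ((Over.map g).obj (HU32.top T')))
      ((HRes.pullConst K g HU32.Z).inv.hom.app (op (HU32.top T')) (HU32.unitElt K T' (HU32.top T')))) = _
  rw [HU32.pullConst_inv_unitElt, HU32.pullConst_inv_unitElt]
  exact HU32.unitElt_map K _

theorem pullConst_id (S : Scheme.{u}) :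
    (HRes.pullConst K (𝟙 S) HU32.Z).inv ≫
      ((K.toGrothendieck).overMapPullbackId AddCommGrpCat.{u + 1} S).hom.app _ = 𝟙 _ := by
  refine const_ext K _ _ ?_
  change (((K.toGrothendieck).overMapPullbackId AddCommGrpCat.{u + 1} S).hom.app _).hom.app _
    ((HRes.pullConst K (𝟙 S) HU32.Z).inv.hom.app (op (HU32.top S)) (HU32.unitElt K S (HU32.top S))) = _
  rw [HU32.pullConst_inv_unitElt]
  exact HU32.unitElt_map K _

theorem pull_id (S : Scheme.{u}) (F : BigSite.Ab K S) (n : ℕ) (x : BigSite.H K S F n) :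
    Sheaf.H.map ((K.toGrothendieck.overMapPullbackId AddCommGrpCat.{u + 1} S).hom.app F) n
      (HRes.pull K (𝟙 S) F n x) = x := by
  have hn := mapExt_natural (BigSite.pullBig K (𝟙 S) AddCommGrpCat.{u + 1}) (𝟭 _) (𝟭 _)
    ((Functor.rightUnitor _).hom ≫ (K.toGrothendieck.overMapPullbackId AddCommGrpCat.{u + 1} S).hom) n x
  rw [mapExt_id n x, mapExt_id n] at hn
  simp only [NatTrans.comp_app, Functor.rightUnitor_hom_app] at hn
  erw [Category.id_comp, Category.id_comp] at hn
  rw [Sheaf.H.map_apply, HRes.pull_apply, Ext.comp_assoc_of_third_deg_zero]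
  refine (congrArg (fun z => Ext.comp _ z (zero_add n)) hn).trans ?_
  rw [Ext.mk₀_comp_mk₀_assoc]
  refine (congrArg (fun z => (Ext.mk₀ z).comp x (zero_add n)) (pullConst_id K S)).trans ?_
  exact Ext.mk₀_id_comp x

theorem pull_comp {S T T' : Scheme.{u}} (f : T ⟶ S) (g : T' ⟶ T) (F : BigSite.Ab K S) (n : ℕ)
    (x : BigSite.H K S F n) :
    HRes.pull K (g ≫ f) F n x =
      Sheaf.H.map ((K.toGrothendieck.overMapPullbackComp AddCommGrpCat.{u + 1} g f).hom.app F) n
        (HRes.pull K g ((BigSite.pullBig K f AddCommGrpCat.{u + 1}).obj F) n (HRes.pull K f F n x)) := by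
  have hn := mapExt_natural (BigSite.pullBig K f AddCommGrpCat.{u + 1})
    (BigSite.pullBig K g AddCommGrpCat.{u + 1}) (BigSite.pullBig K (g ≫ f) AddCommGrpCat.{u + 1})
    (K.toGrothendieck.overMapPullbackComp AddCommGrpCat.{u + 1} g f).hom n x
  symm
  rw [Sheaf.H.map_apply, HRes.pull_apply, HRes.pull_apply, HRes.pull_apply,
    Ext.comp_assoc_of_third_deg_zero, Ext.mapExactFunctor_comp, Ext.mapExactFunctor_mk₀,
    Ext.comp_assoc_of_third_deg_zero]
  refine (congrArg (fun z => Ext.comp _ (Ext.comp _ z (zero_add n)) (zero_add n)) hn).trans ?_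
  rw [Ext.mk₀_comp_mk₀_assoc, Ext.mk₀_comp_mk₀_assoc]
  exact congrArg (fun z => (Ext.mk₀ z).comp _ (zero_add n))
    ((Category.assoc _ _ _).trans (pullConst_comp K f g))

end Groth.Agent.HRes64

end
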